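import Groth.Agent.TrivNilLib.Algebra
import Groth.Agent.FreeActLib.Graph
import Groth.Prelude.Def_SGA3x

/-!
Actions of groups of multiplicative type which are trivial modulo a nilpotent ideal are trivial.
-/

set_option autoImplicit false

noncomputable section

universe u

open CategoryTheory CategoryTheory.Limits MonoidalCategory CartesianMonoidalCategory AlgebraicGeometry CoactBr WithConv
open scoped MonObj TensorProduct

namespace Groth.Agent.TrivNil

open Groth.Agent.FreeAct

attribute [local instance] CoactBr.braidedAlgSpecOf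

/-- The action is trivial on points killing the ideal `I`. -/
def TrivMod {R : Type u} [CommRing R] {G X : Over (Spec (CommRingCat.of R))} [GrpObj G]
    (a : AlgGrp.Action G X) (I : Ideal R) : Prop :=
  ∀ (Y : Over (Spec (CommRingCat.of R))) (g : Y ⟶ G) (x : Y ⟶ X)
    (q : Y.left ⟶ Spec (CommRingCat.of (R ⧸ I))),
    q ≫ Spec.map (CommRingCat.ofHom (Ideal.Quotient.mk I)) = Y.hom → lift g x ≫ a.act = x

set_option synthInstance.maxHeartbeats 400000 in
set_option maxHeartbeats 1000000 in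
/-- The affine split case. -/
theorem act_eq_snd_affine {R : Type u} [CommRing R] {M : Type} [AddCommGroup M]
    {G X : Over (Spec (CommRingCat.of R))} [GrpObj G] (w : sp R (DA R M) ≅ G) [IsMonHom w.hom] [IsAffine X.left]
    (a : AlgGrp.Action G X) {I : Ideal R} (hI : IsNilpotent I) (h0 : TrivMod a I) :
    a.act = snd G X := by
  obtain ⟨φ, hφ⟩ := Spec.map_surjective (X.left.isoSpec.inv ≫ X.hom)
  let B : Type u := Γ(X.left, ⊤)
  letI : Algebra R B := φ.hom.toAlgebra
  let v : sp R B ≅ X := Over.isoMk X.left.isoSpec.symm (by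
    show X.left.isoSpec.inv ≫ X.hom = Spec.map (CommRingCat.ofHom φ.hom)
    rw [← hφ]
    rfl)
  let act'' : sp R (DA R M) ⊗ sp R B ⟶ sp R B :=
    lift (fst _ _ ≫ w.hom) (snd _ _ ≫ v.hom) ≫ a.act ≫ v.inv
  have hact : ∀ {T : Over (Spec (CommRingCat.of R))} (g : T ⟶ sp R (DA R M)) (x : T ⟶ sp R B),
      lift g x ≫ act'' = lift (g ≫ w.hom) (x ≫ v.hom) ≫ a.act ≫ v.inv := fun g x => by
    simp [act'', comp_lift_assoc]
  have hmul : ∀ {T : Over (Spec (CommRingCat.of R))} (g g' : T ⟶ sp R (DA R M)) (x : T ⟶ sp R B),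
      lift (g * g') x ≫ act'' = lift g (lift g' x ≫ act'') ≫ act'' := fun g g' x => by
    rw [hact, hact, hact, MonObj.mul_comp, ← Category.assoc (lift _ (x ≫ v.hom)) a.act, GrpShear.lift_mul_act]
    simp
  have hone : ∀ {T : Over (Spec (CommRingCat.of R))} (x : T ⟶ sp R B),
      lift (1 : T ⟶ sp R (DA R M)) x ≫ act'' = x := fun x => by
    rw [hact, MonObj.one_comp, ← Category.assoc, GrpShear.lift_one_act, Category.assoc, v.hom_inv_id,
      Category.comp_id]
  let iL : DA R M →ₐ[R] DA R M ⊗[R] B := Algebra.TensorProduct.includeLeft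
  let iR : B →ₐ[R] DA R M ⊗[R] B := Algebra.TensorProduct.includeRight
  let U : sp R (DA R M ⊗[R] B) ⟶ sp R (DA R M) ⊗ sp R B := lift (pt iL) (pt iR)
  obtain ⟨ρ, hρ⟩ : ∃ ρ : B →ₐ[R] DA R M ⊗[R] B, U ≫ act'' = pt ρ := DiagRep.exists_pt _
  have hpt : ∀ {K : Type u} [CommRing K] [Algebra R K] (g : DA R M →ₐ[R] K) (x : B →ₐ[R] K),
      lift (pt g) (pt x) ≫ act'' = pt ((pr g x).comp ρ) := by
    intro K _ _ g x
    have e : pt (pr g x) ≫ U = lift (pt g) (pt x) := by
      simp only [U, iL, iR, comp_lift]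
      rw [← pt_comp, ← pt_comp, pr_left, pr_right]
    rw [pt_comp, ← hρ, ← Category.assoc (pt _) U act'', e]
  have hA : IsAct ρ := by
    refine ⟨fun b => ?_, fun b => ?_⟩
    · let g₁ : DA R M →ₐ[R] DA R M ⊗[R] (DA R M ⊗[R] B) := Algebra.TensorProduct.includeLeft
      let j : DA R M ⊗[R] B →ₐ[R] DA R M ⊗[R] (DA R M ⊗[R] B) := Algebra.TensorProduct.includeRight
      have h1 := hmul (pt (K := DA R M ⊗[R] (DA R M ⊗[R] B)) g₁) (pt (K := DA R M ⊗[R] (DA R M ⊗[R] B)) (j.comp iL))
        (pt (K := DA R M ⊗[R] (DA R M ⊗[R] B)) (j.comp iR))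
      rw [pt_mul_pt, hpt, hpt, hpt] at h1
      have h2 := DFunLike.congr_fun (pt_injective h1) b
      rw [AlgHom.comp_apply, AlgHom.comp_apply] at h2
      have e1 : pr (K := DA R M ⊗[R] (DA R M ⊗[R] B)) (j.comp iL) (j.comp iR) = j :=
        Algebra.TensorProduct.ext (AlgHom.ext fun a => by simp [pr, iL]) (AlgHom.ext fun a => by simp [pr, iR])
      rw [e1] at h2
      have eL : ∀ z, pr (K := DA R M ⊗[R] (DA R M ⊗[R] B)) g₁ (j.comp ρ) z =
          LinearMap.lTensor (DA R M) ρ.toLinearMap z := fun z => by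
        induction z using TensorProduct.induction_on with
        | zero => simp
        | add x y hx hy => simp only [map_add, hx, hy]
        | tmul x y => simp [g₁, j]
      rw [← eL, ← pr_assoc]
      exact h2.symm
    · have h1 := hone (pt (AlgHom.id R B))
      rw [one_eq_pt, hpt] at h1
      have h2 := DFunLike.congr_fun (pt_injective h1) b
      rw [AlgHom.comp_apply] at h2
      have e : ∀ z, Algebra.TensorProduct.lift ((Algebra.ofId R B).comp (Bialgebra.counitAlgHom R (DA R M)))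
          (AlgHom.id R B) (fun _ _ => Commute.all _ _) z =
          TensorProduct.lid R B (LinearMap.rTensor B (CoalgebraStruct.counit (R := R)) z) := fun z => by
        induction z using TensorProduct.induction_on with
        | zero => simp
        | add x y hx hy => simp only [map_add, hx, hy]
        | tmul x y => simp [Algebra.smul_def]
      rw [← e]
      exact h2
  -- trivial modulo the ideal
  let J : Ideal (DA R M ⊗[R] B) := I.map (algebraMap R (DA R M ⊗[R] B))
  obtain ⟨K, _, _, π, hkill, hker⟩ : ∃ (K : Type u) (_ : CommRing K) (_ : Algebra R K) (π : DA R M ⊗[R] B →ₐ[R] K),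
      (∀ r ∈ I, algebraMap R K r = 0) ∧ ∀ z, π z = 0 → z ∈ J :=
    ⟨(DA R M ⊗[R] B) ⧸ J, inferInstance, inferInstance, Ideal.Quotient.mkₐ R J, fun r hr =>
      ((Ideal.Quotient.mkₐ R J).commutes r).symm.trans (Ideal.Quotient.eq_zero_iff_mem.2 (Ideal.mem_map_of_mem _ hr)),
      fun z hz => Ideal.Quotient.eq_zero_iff_mem.1 hz⟩
  have h1 : lift (pt (π.comp iL) ≫ w.hom) (pt (π.comp iR) ≫ v.hom) ≫ a.act = pt (π.comp iR) ≫ v.hom := by
    refine h0 _ _ _ (Spec.map (CommRingCat.ofHom (Ideal.Quotient.lift I (algebraMap R _) hkill))) ?_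
    exact (Spec.map_comp _ _).symm.trans rfl
  have h2 : (pr (π.comp iL) (π.comp iR)).comp ρ = π.comp iR := by
    apply pt_injective
    rw [← hpt, hact, ← Category.assoc, h1, Category.assoc, v.hom_inv_id, Category.comp_id]
  have e2 : pr (π.comp iL) (π.comp iR) = π :=
    Algebra.TensorProduct.ext (AlgHom.ext fun a => by simp [pr, iL]) (AlgHom.ext fun a => by simp [pr, iR])
  rw [e2] at h2
  have h3 : ρ = iR := AlgHom.ext fun b => hA.eq_one_tmul_of_nilpotent hI (fun c => by
    have := DFunLike.congr_fun h2 c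
    exact hker _ (by rw [map_sub, sub_eq_zero]; exact this)) b
  have hU : IsIso U := by
    have h := lift_pt_pt (Algebra.TensorProduct.includeLeft : DA R M →ₐ[R] DA R M ⊗[R] B)
      (Algebra.TensorProduct.includeRight : B →ₐ[R] DA R M ⊗[R] B)
    rw [Algebra.TensorProduct.lift_includeLeft_includeRight, pt_id] at h
    have hm := (Functor.Monoidal.μIso (algSpec (CommRingCat.of R)) (Opposite.op (CommAlgCat.of R (DA R M)))
        (Opposite.op (CommAlgCat.of R B))).isIso_hom
    have hc : IsIso (U ≫ Functor.LaxMonoidal.μ (algSpec (CommRingCat.of R)) (Opposite.op (CommAlgCat.of R (DA R M)))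
          (Opposite.op (CommAlgCat.of R B))) := by
      rw [h]
      exact IsIso.id _
    exact @IsIso.of_isIso_comp_right _ _ _ _ _ _ _ hm hc
  rw [← cancel_epi (MonoidalCategory.tensorIso w v).hom, ← cancel_epi U, ← cancel_mono v.inv]
  have h4 := hρ
  rw [h3] at h4
  have e3 : lift (fst (sp R (DA R M)) (sp R B) ≫ w.hom) (snd _ _ ≫ v.hom) =
      (MonoidalCategory.tensorIso w v).hom := by ext <;> simp
  simp only [Category.assoc]
  rw [← e3]
  refine h4.trans ?_
  simp [U, iR]

/-- The split case. -/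
theorem act_eq_snd_split {R : Type u} [CommRing R] {M : Type} [AddCommGroup M]
    {G X : Over (Spec (CommRingCat.of R))} [GrpObj G] (w : sp R (DA R M) ≅ G) [IsMonHom w.hom]
    (a : AlgGrp.Action G X) {I : Ideal R} (hI : IsNilpotent I) (h0 : TrivMod a I) :
    a.act = snd G X := by
  -- the action is topologically trivial
  let i : Spec (CommRingCat.of (R ⧸ I)) ⟶ Spec (CommRingCat.of R) :=
    Spec.map (CommRingCat.ofHom (Ideal.Quotient.mk I))
  have key : ∀ p : PrimeSpectrum R, p ∈ Set.range (PrimeSpectrum.comap (Ideal.Quotient.mk I)) := fun p => by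
      rw [range_comap_of_surjective _ _ Ideal.Quotient.mk_surjective, Ideal.mk_ker,
        PrimeSpectrum.mem_zeroLocus]
      obtain ⟨n, hn⟩ := hI
      exact fun r hr => p.isPrime.mem_of_pow_mem n (by
        have h := Ideal.pow_mem_pow hr n
        rw [hn] at h
        simp [(Submodule.mem_bot R).1 h])
  haveI : Surjective i := ⟨key⟩
  have htop : ∀ z : (G ⊗ X).left, a.act.left z = (snd G X).left z := by
    intro z
    haveI : Surjective (snd (Over.mk i) (G ⊗ X)).left :=
      inferInstanceAs (Surjective (pullback.snd i (G ⊗ X).hom))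
    obtain ⟨y, hy⟩ := (snd (Over.mk i) (G ⊗ X)).left.surjective z
    have h1 := h0 (Over.mk i ⊗ (G ⊗ X)) (snd _ _ ≫ fst G X) (snd _ _ ≫ snd G X)
      (fst (Over.mk i) (G ⊗ X)).left (Over.w (fst (Over.mk i) (G ⊗ X)))
    rw [← comp_lift, lift_fst_snd, Category.comp_id] at h1
    rw [← hy, ← Scheme.Hom.comp_apply, ← Scheme.Hom.comp_apply, ← Over.comp_left, ← Over.comp_left, h1]
  -- restrict to affine opens
  refine Over.OverMorphism.ext (Scheme.Cover.hom_ext (X.left.affineCover.pullback₁ (snd G X).left) _ _ fun k => ?_)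
  let j : Over.mk (X.left.affineCover.f k ≫ X.hom) ⟶ X := Over.homMk (X.left.affineCover.f k)
  haveI : IsOpenImmersion j.left := inferInstanceAs (IsOpenImmersion (X.left.affineCover.f k))
  haveI : Mono j := Over.mono_of_mono_left j
  let U := Over.mk (X.left.affineCover.f k ≫ X.hom)
  have hr : Set.range ((G ◁ j) ≫ a.act).left ⊆ Set.range j.left := by
    rintro _ ⟨z, rfl⟩
    refine ⟨(snd G U).left z, ?_⟩
    rw [Over.comp_left, Scheme.Hom.comp_apply, htop, ← Scheme.Hom.comp_apply, ← Scheme.Hom.comp_apply,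
      ← Over.comp_left, ← Over.comp_left, whiskerLeft_snd]
  let act' : G ⊗ U ⟶ U := Over.homMk (IsOpenImmersion.lift j.left ((G ◁ j) ≫ a.act).left hr) (by
    rw [← Over.w j, IsOpenImmersion.lift_fac_assoc, Over.w])
  have hact' : act' ≫ j = (G ◁ j) ≫ a.act := Over.OverMorphism.ext (IsOpenImmersion.lift_fac _ _ _)
  let a' : AlgGrp.Action G U :=
    { act := act'
      one_act := by
        rw [← cancel_mono j, Category.assoc, hact', ← whisker_exchange_assoc, a.one_act]
        exact leftUnitor_naturality j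
      mul_act := by
        rw [← cancel_mono j, Category.assoc, hact', ← whisker_exchange_assoc, a.mul_act, Category.assoc,
          Category.assoc, hact', ← MonoidalCategory.whiskerLeft_comp_assoc, hact',
          MonoidalCategory.whiskerLeft_comp_assoc, associator_naturality_right_assoc] }
  have h0' : TrivMod a' I := fun Y g x q hq => by
    have := h0 Y g (x ≫ j) q hq
    rw [← cancel_mono j, Category.assoc]
    show lift g x ≫ act' ≫ j = x ≫ j
    rw [hact', lift_whiskerLeft_assoc]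
    exact this
  haveI : IsAffine U.left := inferInstanceAs (IsAffine (X.left.affineCover.X k))
  have hU : act' = snd G U := act_eq_snd_affine w a' hI h0'
  let pc : pullback (snd G X).left (X.left.affineCover.f k) ⟶ (G ⊗ X).left := pullback.fst _ _
  let κ : Over.mk (pc ≫ (G ⊗ X).hom) ⟶ G ⊗ X := Over.homMk pc
  let x : Over.mk (pc ≫ (G ⊗ X).hom) ⟶ U := Over.homMk (pullback.snd _ _) (by
    show pullback.snd _ _ ≫ X.left.affineCover.f k ≫ X.hom = pc ≫ (G ⊗ X).hom
    rw [← pullback.condition_assoc, Over.w (snd G X)])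
  have hκ : lift (κ ≫ fst G X) x ≫ (G ◁ j) = κ := by
    rw [lift_whiskerLeft]
    refine CartesianMonoidalCategory.hom_ext _ _ (lift_fst _ _) ?_
    rw [lift_snd]
    exact Over.OverMorphism.ext pullback.condition.symm
  have h5 : κ ≫ a.act = κ ≫ snd G X := by
    rw [← hκ, Category.assoc, Category.assoc, ← hact', hU, whiskerLeft_snd]
  exact congrArg CommaMorphism.left h5

variable {S S₀ : Scheme.{u}}

/-- Actions of groups of multiplicative type trivial modulo a locally nilpotent ideal are trivial. -/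
theorem act_eq_snd (i₀ : S₀ ⟶ S) [IsClosedImmersion i₀]
    (hnil : ∀ x : S, ∃ U : S.affineOpens, x ∈ (U : S.Opens) ∧ IsNilpotent (i₀.ker.ideal U))
    {G X : Over S} [GrpObj G]
    (hG : TwC.Locally S TwC.Topology.fpqc (fun S' f => ∃ (M : Type) (_ : AddCommGroup M),
      Nonempty (Grp.mk (Red.bc f G) ≅ Grp.mk (Red.DS S' M))))
    (a : AlgGrp.Action G X)
    (h0 : ∀ (Y : Over S) (_ : Y ⟶ Over.mk i₀) (g : Y ⟶ G) (x : Y ⟶ X), lift g x ≫ a.act = x) :
    a.act = snd G X := by
  obtain ⟨S', f, hflat, hsurj, -, hloc⟩ := hG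
  haveI := hflat
  haveI := hsurj
  haveI : Epi (pullback.fst (G ⊗ X).hom f) := Flat.epi_of_flat_of_surjective _
  refine Over.OverMorphism.ext ?_
  rw [← cancel_epi (pullback.fst (G ⊗ X).hom f)]
  choose U hxU M _ hiso using hloc
  choose V hV hnilV using fun x : S' => hnil (f x)
  have hex : ∀ x : S', ∃ T : S'.Opens, IsAffineOpen T ∧ x ∈ T ∧ T ≤ U x ⊓ f ⁻¹ᵁ (V x : S.Opens) := fun x =>
    exists_isAffineOpen_mem_and_subset (X := S') (x := x) ⟨hxU x, hV x⟩
  choose T hTaff hxT hTU using hex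
  let 𝒰 := S'.openCoverOfIsOpenCover T (TopologicalSpace.Opens.ext
    (Set.eq_univ_of_forall fun y => by
      simp only [TopologicalSpace.Opens.coe_iSup, Set.mem_iUnion]
      exact ⟨y, hxT y⟩))
  refine Scheme.Cover.hom_ext (𝒰.pullback₁ (pullback.snd (G ⊗ X).hom f)) _ _ fun (x : S') => ?_
  haveI : IsAffine (T x : Scheme.{u}) := hTaff x
  let R : Type u := Γ((T x : Scheme.{u}), ⊤)
  let i : Spec (CommRingCat.of R) ⟶ (T x : Scheme.{u}) := (T x : Scheme.{u}).isoSpec.inv
  obtain ⟨e⟩ := hiso x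
  let j : Spec (CommRingCat.of R) ⟶ (U x : Scheme.{u}) := i ≫ S'.homOfLE ((hTU x).trans inf_le_left)
  let p : Spec (CommRingCat.of R) ⟶ S := j ≫ (U x).ι ≫ f
  have hp : p = i ≫ (T x).ι ≫ f := by simp only [p, j, Category.assoc, Scheme.homOfLE_ι_assoc]
  -- splitting
  obtain ⟨w₀, hw₀, -⟩ := TorusField.exists_DS_iso R (M x)
  let e₁ : Red.bc ((U x).ι ≫ f) G ≅ Red.DS (U x : Scheme.{u}) (M x) := (Grp.forget _).mapIso e
  haveI : IsMonHom e₁.inv := e.inv.hom.isMonHom_hom
  let e₂ : Red.bc p G ≅ Red.bc j (Red.bc ((U x).ι ≫ f) G) := (ActBC.bcCompIso j _ G rfl).symm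
  let c : Red.bc j (Red.DS (U x : Scheme.{u}) (M x)) ≅ Red.DS (Spec (CommRingCat.of R)) (M x) :=
    ActBC.bcCompIso j _ _ (specULiftZIsTerminal.hom_ext _ _)
  haveI : IsMonHom c.hom := ActBC.bcCompIso_isMonHom _ _ _
  haveI : IsMonHom (ActBC.bcCompIso j ((U x).ι ≫ f) G rfl).hom := ActBC.bcCompIso_isMonHom _ _ _
  haveI : IsMonHom e₂.inv := ActBC.bcCompIso_isMonHom _ _ _
  haveI hm : IsMonHom (M := Red.bc j (Red.DS (U x : Scheme.{u}) (M x))) (N := Red.bc j (Red.bc ((U x).ι ≫ f) G))
      ((Over.pullback j).map e₁.inv) :=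
    @Functor.map.instIsMonHom _ _ _ _ _ _ (Over.pullback j) _ _ _ _ _ e₁.inv _
  haveI : IsMonHom c.inv := inferInstance
  let w : sp R (DA R (M x)) ≅ Red.bc p G :=
    w₀ ≪≫ c.symm ≪≫ ((Over.pullback j).mapIso e₁).symm ≪≫ e₂.symm
  haveI : IsMonHom w.hom := by
    show IsMonHom (w₀.hom ≫ c.inv ≫ (Over.pullback j).map e₁.inv ≫ e₂.inv)
    infer_instance
  -- the ideal
  have hpV : Set.range p ⊆ Set.range (V x).2.fromSpec := by
    rw [IsAffineOpen.range_fromSpec, hp]
    rintro _ ⟨z, rfl⟩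
    exact (hTU x ((i z).2)).2
  obtain ⟨φ, hφ⟩ := Spec.map_surjective (IsOpenImmersion.lift (V x).2.fromSpec p hpV)
  have hφp : Spec.map φ ≫ (V x).2.fromSpec = p := by rw [hφ, IsOpenImmersion.lift_fac]
  let I : Ideal R := (i₀.ker.ideal (V x)).map φ.hom
  have hI : IsNilpotent I := by
    obtain ⟨n, hn⟩ := hnilV x
    exact ⟨n, by rw [← Ideal.map_pow, hn]; exact Ideal.map_bot⟩
  have h0' : TrivMod (a.bc p) I := by
    intro Y g z q hq
    obtain ⟨g₀, rfl⟩ := ((Over.mapPullbackAdj p).homEquiv Y G).surjective g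
    obtain ⟨z₀, rfl⟩ := ((Over.mapPullbackAdj p).homEquiv Y X).surjective z
    rw [AlgGrp.Action.lift_homEquiv_bc_act]
    congr 1
    let ψ : CommRingCat.of (Γ(S, V x) ⧸ i₀.ker.ideal (V x)) ⟶ CommRingCat.of (R ⧸ I) :=
      CommRingCat.ofHom (Ideal.quotientMap I φ.hom Ideal.le_comap_map)
    let s : Spec (CommRingCat.of (Γ(S, V x) ⧸ i₀.ker.ideal (V x))) ⟶ S₀ :=
      i₀.ker.subschemeCover.f (V x) ≫ inv i₀.toImage
    have hs : s ≫ i₀ = Spec.map (CommRingCat.ofHom (Ideal.Quotient.mk _)) ≫ (V x).2.fromSpec := by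
      have : inv i₀.toImage ≫ i₀ = i₀.imageι := by rw [IsIso.inv_comp_eq, Scheme.Hom.toImage_imageι]
      simp only [s, Category.assoc, this]
      exact (i₀.ker.subschemeCover_map_subschemeι (V x)).trans (i₀.ker.glueDataObjι_ι (V x))
    refine h0 _ (Over.homMk (q ≫ Spec.map ψ ≫ s) ?_) g₀ z₀
    show (q ≫ Spec.map ψ ≫ s) ≫ i₀ = Y.hom ≫ p
    rw [Category.assoc, Category.assoc, hs, ← hq, Category.assoc, ← hφp, ← Spec.map_comp_assoc,
      ← Spec.map_comp_assoc]
    rfl
  have h6 := act_eq_snd_split w (a.bc p) hI h0'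
  rw [AlgGrp.Action.bc_act, ← Functor.Monoidal.μ_snd (Over.pullback p) G X, cancel_epi] at h6
  have h7 : pullback.fst (G ⊗ X).hom p ≫ a.act.left = pullback.fst (G ⊗ X).hom p ≫ (snd G X).left := by
    have := congrArg (fun m => m.left ≫ pullback.fst X.hom p) h6
    simpa [pullback.lift_fst] using this
  let pc : pullback (pullback.snd (G ⊗ X).hom f) (T x).ι ⟶ pullback (G ⊗ X).hom f := pullback.fst _ _
  let l : pullback (pullback.snd (G ⊗ X).hom f) (T x).ι ⟶ pullback (G ⊗ X).hom p :=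
    pullback.lift (pc ≫ pullback.fst _ _) (pullback.snd _ _ ≫ (T x : Scheme.{u}).isoSpec.hom) (by
      rw [Category.assoc, pullback.condition, pullback.condition_assoc, Category.assoc, hp]
      simp [i])
  show pc ≫ pullback.fst _ _ ≫ a.act.left = pc ≫ pullback.fst _ _ ≫ (snd G X).left
  have hl : l ≫ pullback.fst _ p = pc ≫ pullback.fst _ _ := pullback.lift_fst _ _ _
  rw [← reassoc_of% hl, ← reassoc_of% hl, h7]

end Groth.Agent.TrivNil

namespace Groth.Agent.TrivNil

variable {S : Scheme.{u}} {G H : Over S} [GrpObj G] [GrpObj H] (u : G ⟶ H) [IsMonHom u]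

/-- A group acts on the target of a homomorphism by conjugation. -/
def conjAction : AlgGrp.Action G H where
  act := (fst G H ≫ u) * snd G H * (fst G H ≫ u)⁻¹
  one_act := by
    simp only [MonObj.comp_mul, GrpObj.comp_inv, whiskerRight_fst_assoc, whiskerRight_snd]
    rw [IsMonHom.one_hom, leftUnitor_hom]
    have h1 : fst (𝟙_ (Over S)) H ≫ η[H] = (1 : 𝟙_ (Over S) ⊗ H ⟶ H) := by
      rw [MonObj.one_eq_one, MonObj.comp_one]
    rw [h1, one_mul, inv_one, mul_one]
  mul_act := by
    simp only [MonObj.comp_mul, GrpObj.comp_inv, whiskerRight_fst_assoc, whiskerRight_snd,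
      whiskerLeft_fst_assoc, whiskerLeft_snd, associator_hom_fst_assoc, associator_hom_snd_fst_assoc,
      associator_hom_snd_snd, Category.assoc, IsMonHom.mul_hom]
    have h1 : ((u ⊗ₘ u) ≫ μ[H]) = (fst G G ≫ u) * (snd G G ≫ u) := by
      rw [MonObj.mul_eq_mul]
      simp [MonObj.comp_mul, tensorHom_fst, tensorHom_snd]
    rw [h1]
    simp only [MonObj.comp_mul, Category.assoc, mul_inv_rev, mul_assoc]

theorem comp_conjAction_act {Y : Over S} (g : Y ⟶ G) (h : Y ⟶ H) :
    lift g h ≫ (conjAction u).act = (g ≫ u) * h * (g ≫ u)⁻¹ := by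
  simp [conjAction, MonObj.comp_mul, GrpObj.comp_inv]

end Groth.Agent.TrivNil
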