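import Groth.Agent.FreeActLib.Algebra

/-!
Coactions of group algebras which are trivial modulo a nilpotent ideal.
-/

set_option autoImplicit false

noncomputable section

universe u

open TensorProduct MonoidAlgebra

namespace Groth.Agent.FreeAct

variable {R : Type u} [CommRing R] {B : Type u} [CommRing B] [Algebra R B] {M : Type} [AddCommGroup M]
  {ρ : B →ₐ[R] DA R M ⊗[R] B}

theorem IsAct.eq_one_tmul_of_nilpotent (h : IsAct ρ) {I : Ideal R} (hI : IsNilpotent I)
    (h0 : ∀ b, ρ b - 1 ⊗ₜ[R] b ∈ I.map (algebraMap R (DA R M ⊗[R] B))) (b : B) : ρ b = 1 ⊗ₜ[R] b := by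
  classical
  obtain ⟨N, hN⟩ := hI
  have hb1 : bas R M 1 = (1 : DA R M) := by rw [bas_apply, ← MonoidAlgebra.one_def]
  have hm : ∀ m : Multiplicative M, m ≠ 1 → co ρ m = 0 := by
    intro m hm
    have h1 : ∀ c, co ρ m c ∈ I • (⊤ : Submodule R B) := by
      intro c
      let L : DA R M ⊗[R] B →ₗ[R] B :=
        (TensorProduct.lid R B).toLinearMap ∘ₗ LinearMap.rTensor B ((bas R M).coord m)
      have h2 : ρ c - 1 ⊗ₜ[R] c ∈ I • (⊤ : Submodule R (DA R M ⊗[R] B)) := by
        rw [Ideal.smul_top_eq_map]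
        exact h0 c
      have h3 : L (ρ c - 1 ⊗ₜ[R] c) ∈ (I • (⊤ : Submodule R (DA R M ⊗[R] B))).map L := ⟨_, h2, rfl⟩
      rw [Submodule.map_smul''] at h3
      have h4 : L (ρ c - 1 ⊗ₜ[R] c) = co ρ m c := by
        rw [map_sub, ← hb1]
        simp [L, co_apply, hm.symm]
      rw [← h4]
      exact Submodule.smul_mono le_rfl le_top h3
    have h5 : ∀ n : ℕ, LinearMap.range (co ρ m) ≤ (I ^ n) • (⊤ : Submodule R B) := by
      intro n
      induction n with
      | zero => rw [pow_zero, Ideal.one_eq_top, Submodule.top_smul]; exact le_top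
      | succ n ih =>
        rintro _ ⟨c, rfl⟩
        have h6 : co ρ m (co ρ m c) = co ρ m c := by rw [co_of_weight (h.rho_co m c), if_pos rfl]
        rw [← h6]
        have h7 : co ρ m (co ρ m c) ∈ ((I ^ n) • (⊤ : Submodule R B)).map (co ρ m) := ⟨_, ih ⟨c, rfl⟩, rfl⟩
        rw [Submodule.map_smul''] at h7
        rw [pow_succ, Submodule.mul_smul]
        refine Submodule.smul_mono le_rfl ?_ h7
        rintro _ ⟨d, -, rfl⟩
        exact h1 d
    ext c
    have h8 := h5 N ⟨c, rfl⟩
    rw [hN] at h8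
    simpa using h8
  obtain ⟨F, hF⟩ := h.exists_sum_co b
  have h9 : co ρ 1 b = b := by
    obtain ⟨G, hG⟩ := exists_finset_co (ρ := ρ) b
    have h10 := h.unit b
    rw [hG (insert 1 (G ∪ F)) (Finset.subset_union_left.trans (Finset.subset_insert _ _)),
      Finset.sum_eq_single (1 : Multiplicative M) (fun m _ hne => by rw [hm m hne]; simp) (by simp)] at h10
    rw [hb1] at h10
    simpa using h10
  have h11 := h.rho_co 1 b
  rwa [h9, hb1] at h11

end Groth.Agent.FreeAct
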